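import Mathlib.Algebra.Homology.DerivedCategory.KProjective
import Mathlib.Algebra.Homology.HomotopyCategory.HomComplexSingle
import Mathlib.Algebra.Homology.DerivedCategory.Linear
import Mathlib.Algebra.Category.ModuleCat.Projective
import Groth.Prelude.Def_DRing2

/-!
# Morphisms from a K-projective complex to a shifted module
-/

universe w v u

open CategoryTheory Limits
open CochainComplex.HomComplex

attribute [local instance] HasDerivedCategory.standard

namespace Groth.Agent.PcExt

variable {C : Type u} [Category.{v} C] [Abelian C] (E : CochainComplex C ℤ) {X : C}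

/-- The morphism `Q E ⟶ X[0]⟦p⟧` given by a cocycle `f : E^q → X`, `q + p = 0`. -/
noncomputable def homOfCocycle {q p : ℤ} (h : q + p = 0) (f : E.X q ⟶ X) (q' : ℤ)
    (hq' : q' + 1 = q) (hf : E.d q' q ≫ f = 0) :
    DerivedCategory.Q.obj E ⟶ ((DerivedCategory.singleFunctor C 0).obj X)⟦p⟧ :=
  ShiftedHom.map (Cocycle.equivHomShift.symm (Cocycle.toSingleMk f h q' hq' hf)) DerivedCategory.Q

variable {E} in
lemma homOfCocycle_congr {q p : ℤ} (h : q + p = 0) {f f' : E.X q ⟶ X} (e : f = f') (q' : ℤ)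
    (hq' : q' + 1 = q) (hf : E.d q' q ≫ f = 0) (hf' : E.d q' q ≫ f' = 0) :
    homOfCocycle E h f q' hq' hf = homOfCocycle E h f' q' hq' hf' := by
  subst e; rfl

lemma homOfCocycle_comp {q p : ℤ} (h : q + p = 0) (f : E.X q ⟶ X) (q' : ℤ) (hq' : q' + 1 = q)
    (hf : E.d q' q ≫ f = 0) {Y : C} (g : X ⟶ Y) :
    homOfCocycle E h f q' hq' hf ≫ ((DerivedCategory.singleFunctor C 0).map g)⟦p⟧' =
      homOfCocycle E h (f ≫ g) q' hq' (by rw [← Category.assoc, hf, zero_comp]) := by
  have key : Cocycle.equivHomShift.symm (Cocycle.toSingleMk (f ≫ g) h q' hq'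
      (by rw [← Category.assoc, hf, zero_comp])) =
      Cocycle.equivHomShift.symm (Cocycle.toSingleMk f h q' hq' hf) ≫
        ((CochainComplex.singleFunctor C 0).map g)⟦p⟧' := by
    rw [Cocycle.toSingleMk_postcomp f h q' hq' hf g]
    apply Cocycle.equivHomShift.injective
    rw [AddEquiv.apply_symm_apply, Cocycle.equivHomShift_comp_shift, AddEquiv.apply_symm_apply]
  simp only [homOfCocycle, ShiftedHom.map, key, Functor.map_comp]
  have hn := (DerivedCategory.Q.commShiftIso p).hom.naturality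
    ((CochainComplex.singleFunctor C 0).map g)
  change (DerivedCategory.Q.map _ ≫ (DerivedCategory.Q.commShiftIso p).hom.app _) ≫
    (DerivedCategory.Q.map ((CochainComplex.singleFunctor C 0).map g))⟦p⟧' = _
  rw [Category.assoc, Category.assoc]
  exact congrArg _ hn.symm

variable [E.IsKProjective]

theorem homOfCocycle_surjective {q p : ℤ} (h : q + p = 0) (q' : ℤ) (hq' : q' + 1 = q)
    (e : DerivedCategory.Q.obj E ⟶ ((DerivedCategory.singleFunctor C 0).obj X)⟦p⟧) :
    ∃ (f : E.X q ⟶ X) (hf : E.d q' q ≫ f = 0), homOfCocycle E h f q' hq' hf = e := by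
  let L := (CochainComplex.singleFunctor C 0).obj X
  obtain ⟨g₀, hg₀⟩ := (CochainComplex.IsKProjective.Qh_map_bijective E
    ((HomotopyCategory.quotient _ _).obj (L⟦p⟧))).2
      ((DerivedCategory.quotientCompQhIso C).hom.app E ≫ e ≫
        (DerivedCategory.Q.commShiftIso p).inv.app L ≫
        (DerivedCategory.quotientCompQhIso C).inv.app (L⟦p⟧))
  obtain ⟨g, rfl⟩ := (HomotopyCategory.quotient _ _).map_surjective g₀
  have hg : DerivedCategory.Q.map g = e ≫ (DerivedCategory.Q.commShiftIso p).inv.app L := by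
    rw [← cancel_epi ((DerivedCategory.quotientCompQhIso C).hom.app E),
      ← DerivedCategory.quotientCompQhIso_hom_naturality, hg₀]
    simp
  obtain ⟨f, hf, hfg⟩ := Cocycle.toSingleMk_surjective (Cocycle.equivHomShift g) q h q' hq'
  refine ⟨f, hf, ?_⟩
  simp only [homOfCocycle, hfg, AddEquiv.symm_apply_apply, ShiftedHom.map, hg, Category.assoc]
  exact (congrArg (e ≫ ·) ((DerivedCategory.Q.commShiftIso p).inv_hom_id_app L)).trans
    (Category.comp_id _)

theorem homOfCocycle_eq_zero_iff {q p : ℤ} (h : q + p = 0) (f : E.X q ⟶ X) (q' : ℤ)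
    (hq' : q' + 1 = q) (hf : E.d q' q ≫ f = 0) (q'' : ℤ) (hq'' : q + 1 = q'') :
    homOfCocycle E h f q' hq' hf = 0 ↔ ∃ g : E.X q'' ⟶ X, E.d q q'' ≫ g = f := by
  rw [← Cocycle.toSingleMk_mem_coboundaries_iff f h q' hq' hf q'' hq'',
    ← CohomologyClass.toHom_mk_eq_zero_iff, CohomologyClass.toHom_mk]
  let g := Cocycle.equivHomShift.symm (Cocycle.toSingleMk f h q' hq' hf)
  change DerivedCategory.Q.map g ≫ (DerivedCategory.Q.commShiftIso p).hom.app _ = 0 ↔
    (HomotopyCategory.quotient _ _).map g = 0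
  rw [← cancel_mono ((DerivedCategory.Q.commShiftIso p).inv.app _), Category.assoc,
    Iso.hom_inv_id_app, zero_comp]
  constructor
  · intro h0
    refine (CochainComplex.IsKProjective.Qh_map_bijective E _).1 ?_
    rw [Functor.map_zero, ← cancel_mono ((DerivedCategory.quotientCompQhIso C).hom.app _),
      DerivedCategory.quotientCompQhIso_hom_naturality, zero_comp]
    rw [show DerivedCategory.Q.map g = 0 from (Category.comp_id _).symm.trans h0, comp_zero]
  · intro h0
    refine (Category.comp_id _).trans ?_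
    rw [← cancel_epi ((DerivedCategory.quotientCompQhIso C).hom.app E),
      ← DerivedCategory.quotientCompQhIso_hom_naturality, h0, Functor.map_zero, zero_comp,
      comp_zero]

omit [E.IsKProjective] in
lemma homOfCocycle_add {q p : ℤ} (h : q + p = 0) (f₁ f₂ : E.X q ⟶ X) (q' : ℤ) (hq' : q' + 1 = q)
    (hf₁ : E.d q' q ≫ f₁ = 0) (hf₂ : E.d q' q ≫ f₂ = 0) :
    homOfCocycle E h (f₁ + f₂) q' hq' (by rw [Preadditive.comp_add, hf₁, hf₂, add_zero]) =
      homOfCocycle E h f₁ q' hq' hf₁ + homOfCocycle E h f₂ q' hq' hf₂ := by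
  simp only [homOfCocycle, Cocycle.toSingleMk_add f₁ f₂ h q' hq' hf₁ hf₂, map_add, ShiftedHom.map,
    Functor.map_add, Preadditive.add_comp]
  rfl

omit [E.IsKProjective] in
lemma homOfCocycle_sub {q p : ℤ} (h : q + p = 0) (f₁ f₂ : E.X q ⟶ X) (q' : ℤ) (hq' : q' + 1 = q)
    (hf₁ : E.d q' q ≫ f₁ = 0) (hf₂ : E.d q' q ≫ f₂ = 0) :
    homOfCocycle E h (f₁ - f₂) q' hq' (by rw [Preadditive.comp_sub, hf₁, hf₂, sub_zero]) =
      homOfCocycle E h f₁ q' hq' hf₁ - homOfCocycle E h f₂ q' hq' hf₂ := by
  simp only [homOfCocycle, Cocycle.toSingleMk_sub f₁ f₂ h q' hq' hf₁ hf₂, map_sub, ShiftedHom.map,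
    Functor.map_sub, Preadditive.sub_comp]
  rfl

section Module

variable {A : Type u} [CommRing A]

/-- A bounded above complex of finite free modules is K-projective. -/
theorem isKProjective_of_termwiseFiniteFree (E : DRing.Cx A) (b : ℤ)
    (hb : DRing.VanishesAbove E b) (hf : DRing.TermwiseFiniteFree E) : E.IsKProjective := by
  have : E.IsStrictlyLE b := by
    rw [CochainComplex.isStrictlyLE_iff]
    exact fun i hi => hb i hi
  have : ∀ n : ℤ, Projective (E.X n) := fun n =>
    have := (hf n).2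
    (IsProjective.iff_projective (R := A) (E.X n)).1 inferInstance
  exact CochainComplex.isKProjective_of_projective E b

/-- The class of a cocycle is `A`-linear. -/
lemma homOfCocycle_smul (E : DRing.Cx A) {X : ModuleCat.{u} A} {q p : ℤ} (h : q + p = 0)
    (f : E.X q ⟶ X) (q' : ℤ) (hq' : q' + 1 = q) (hf : E.d q' q ≫ f = 0) (a : A) :
    homOfCocycle E h (a • f) q' hq' (by rw [Linear.comp_smul, hf, smul_zero]) =
      a • homOfCocycle E h f q' hq' hf := by
  rw [← homOfCocycle_congr (E := E) h (show f ≫ (a • 𝟙 X) = a • f by simp) q' hq'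
    (by rw [Linear.comp_smul, Category.comp_id, Linear.comp_smul, hf, smul_zero]) _,
    ← homOfCocycle_comp, Functor.map_smul, CategoryTheory.Functor.map_id, Functor.map_smul,
    CategoryTheory.Functor.map_id, Linear.comp_smul, Category.comp_id]

end Module

end Groth.Agent.PcExt
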