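import Groth.Agent.PcExt.Basic
import Mathlib.RingTheory.Filtration

/-!
# Cocycles with values in `I ^ n • M`
-/

universe u

open CategoryTheory Limits

attribute [local instance] HasDerivedCategory.standard

namespace Groth.Agent.PcExt

/-- A linear map from a finite free module with values in `J • M` lies in `J • Hom`. -/
theorem mem_smul_top_of_range_le {A : Type*} [CommRing A] {P M : Type*} [AddCommGroup P]
    [Module A P] [Module.Finite A P] [Module.Free A P] [AddCommGroup M] [Module A M] (J : Ideal A)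
    (φ : P →ₗ[A] M) (h : ∀ x, φ x ∈ J • (⊤ : Submodule A M)) :
    φ ∈ J • (⊤ : Submodule A (P →ₗ[A] M)) := by
  let b := Module.Free.chooseBasis A P
  have hφ : φ = ∑ i, (b.coord i).smulRight (φ (b i)) := by
    refine b.ext fun j => ?_
    rw [LinearMap.sum_apply, Finset.sum_eq_single j]
    · simp
    · intro i _ hij
      simp [Finsupp.single_apply, Ne.symm hij]
    · simp
  rw [hφ]
  refine sum_mem fun i _ => ?_
  have : LinearMap.smulRightₗ (b.coord i) (φ (b i)) ∈
      (J • (⊤ : Submodule A M)).map (LinearMap.smulRightₗ (b.coord i)) :=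
    Submodule.mem_map_of_mem (h _)
  rw [Submodule.map_smul''] at this
  exact (Submodule.smul_mono le_rfl le_top) this

variable {A : Type u} [CommRing A] (E : DRing.Cx A) (M : Type u) [AddCommGroup M] [Module A M]

/-- The cocycles in degree `q`. -/
def cocycles (q : ℤ) : Submodule A (E.X q →ₗ[A] M) :=
  LinearMap.ker (LinearMap.lcomp A M (E.d (q - 1) q).hom)

lemma mem_cocycles {q : ℤ} {φ : E.X q →ₗ[A] M} :
    φ ∈ cocycles E M q ↔ E.d (q - 1) q ≫ ModuleCat.ofHom φ = (0 : E.X (q - 1) ⟶ ModuleCat.of A M) := by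
  rw [cocycles, LinearMap.mem_ker]
  constructor
  · intro h
    ext x
    exact LinearMap.congr_fun h x
  · intro h
    exact congrArg ModuleCat.Hom.hom h

/-- The class map on cocycles, as a linear map. -/
noncomputable def classMap {q p : ℤ} (h : q + p = 0) :
    cocycles E M q →ₗ[A] (DRing.toD E ⟶ (Dual.inD A M)⟦p⟧) where
  toFun φ := homOfCocycle E h (ModuleCat.ofHom φ.1) (q - 1) (by omega) ((mem_cocycles E M).mp φ.2)
  map_add' φ ψ := homOfCocycle_add E h (ModuleCat.ofHom φ.1) (ModuleCat.ofHom ψ.1) (q - 1) (by omega) _ _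
  map_smul' a φ := homOfCocycle_smul E h (ModuleCat.ofHom φ.1) (q - 1) (by omega) _ a

lemma classMap_surjective [E.IsKProjective] {q p : ℤ} (h : q + p = 0) :
    Function.Surjective (classMap E M h) := by
  intro e
  obtain ⟨f, hf, he⟩ := homOfCocycle_surjective E h (q - 1) (by omega) e
  exact ⟨⟨f.hom, (mem_cocycles E M).mpr hf⟩, he⟩

/-- Artin–Rees for cocycles: those with values in `I ^ n • M` give classes in `I ^ (n - c)`. -/
theorem exists_classMap_mem [IsNoetherianRing A] [Module.Finite A M]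
    (hE : DRing.TermwiseFiniteFree E) (I : Ideal A) {q p : ℤ} (h : q + p = 0) :
    ∃ c : ℕ, ∀ n : ℕ, c ≤ n → ∀ φ : cocycles E M q,
      (∀ x, φ.1 x ∈ I ^ n • (⊤ : Submodule A M)) →
      classMap E M h φ ∈ I ^ (n - c) • (⊤ : Submodule A (DRing.toD E ⟶ (Dual.inD A M)⟦p⟧)) := by
  have := (hE q).1
  have := (hE q).2
  obtain ⟨c, hc⟩ := Ideal.exists_pow_inf_eq_pow_smul I (cocycles E M q)
  refine ⟨c, fun n hn φ hφ => ?_⟩
  have h1 : φ.1 ∈ I ^ n • ⊤ ⊓ cocycles E M q :=
    ⟨mem_smul_top_of_range_le (I ^ n) φ.1 hφ, φ.2⟩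
  rw [hc n hn] at h1
  have h2 : φ.1 ∈ I ^ (n - c) • cocycles E M q := Submodule.smul_mono le_rfl inf_le_right h1
  have h3 : φ ∈ I ^ (n - c) • (⊤ : Submodule A (cocycles E M q)) :=
    Submodule.mem_smul_top_iff _ _ φ |>.mpr h2
  have h4 := Submodule.mem_map_of_mem (f := classMap E M h) h3
  rw [Submodule.map_smul''] at h4
  exact Submodule.smul_mono le_rfl le_top h4

/-- If all classes are `I`-power torsion, cocycles with values deep in `I ^ n • M` are
coboundaries. -/
theorem exists_classMap_eq_zero [IsNoetherianRing A] [Module.Finite A M] [E.IsKProjective]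
    (hE : DRing.TermwiseFiniteFree E) (I : Ideal A) {q p : ℤ} (h : q + p = 0)
    (htors : ∀ e : DRing.toD E ⟶ (Dual.inD A M)⟦p⟧, ∃ n : ℕ, ∀ x ∈ I ^ n, x • e = 0) :
    ∃ m : ℕ, ∀ n : ℕ, m ≤ n → ∀ φ : cocycles E M q,
      (∀ x, φ.1 x ∈ I ^ n • (⊤ : Submodule A M)) → classMap E M h φ = 0 := by
  classical
  have := (hE q).1
  have := (hE q).2
  obtain ⟨c, hc⟩ := exists_classMap_mem E M hE I h
  have hfin : Module.Finite A (DRing.toD E ⟶ (Dual.inD A M)⟦p⟧) :=
    Module.Finite.of_surjective (classMap E M h) (classMap_surjective E M h)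
  obtain ⟨s, hs⟩ := hfin.fg_top
  choose N hN using htors
  let N₀ := s.sup N
  have hkill : ∀ e : DRing.toD E ⟶ (Dual.inD A M)⟦p⟧, ∀ x ∈ I ^ N₀, x • e = 0 := by
    intro e x hx
    have he : e ∈ Submodule.span A (s : Set _) := hs ▸ Submodule.mem_top
    induction he using Submodule.span_induction with
    | mem y hy => exact hN y x (Ideal.pow_le_pow_right (Finset.le_sup hy) hx)
    | zero => exact smul_zero x
    | add y z _ _ h1 h2 => rw [smul_add, h1, h2, add_zero]
    | smul a y _ h1 => rw [smul_comm, h1, smul_zero]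
  refine ⟨N₀ + c, fun n hn φ hφ => ?_⟩
  have hm := hc n (by omega) φ hφ
  have hle : I ^ (n - c) ≤ I ^ N₀ := Ideal.pow_le_pow_right (by omega)
  refine Submodule.smul_induction_on hm (fun x hx e _ => hkill e x (hle hx)) ?_
  intro y z hy hz
  rw [hy, hz, add_zero]

/-- The essentially constant system. -/
theorem essentially_constant [IsNoetherianRing A] [Module.Finite A M] [E.IsKProjective]
    (hE : DRing.TermwiseFiniteFree E) (I : Ideal A) (p : ℤ)
    (htors : ∀ (N : Submodule A M) (j : ℤ), p ≤ j →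
      ∀ e : DRing.toD E ⟶ (Dual.inD A N)⟦j⟧, ∃ n : ℕ, ∀ x ∈ I ^ n, x • e = 0)
    (htorsM : ∀ e : DRing.toD E ⟶ (Dual.inD A M)⟦p⟧, ∃ n : ℕ, ∀ x ∈ I ^ n, x • e = 0) :
    (∃ m : ℕ, ∀ e : DRing.toD E ⟶ (Dual.inD A M)⟦p⟧,
      e ≫ ((DerivedCategory.singleFunctor (ModuleCat.{u} A) 0).map
        (ModuleCat.ofHom (I ^ m • ⊤ : Submodule A M).mkQ))⟦p⟧' = 0 → e = 0) ∧
    ∀ n : ℕ, ∃ (m' : ℕ) (hnm : n ≤ m'),
      ∀ x : DRing.toD E ⟶ (Dual.inD A (M ⧸ (I ^ m' • ⊤ : Submodule A M)))⟦p⟧,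
        ∃ y : DRing.toD E ⟶ (Dual.inD A M)⟦p⟧,
          y ≫ ((DerivedCategory.singleFunctor (ModuleCat.{u} A) 0).map
              (ModuleCat.ofHom (I ^ n • ⊤ : Submodule A M).mkQ))⟦p⟧' =
          x ≫ ((DerivedCategory.singleFunctor (ModuleCat.{u} A) 0).map
            (ModuleCat.ofHom (Submodule.mapQ (I ^ m' • ⊤) (I ^ n • ⊤) (LinearMap.id : M →ₗ[A] M)
              (Submodule.smul_mono_left (Ideal.pow_le_pow_right hnm)))))⟦p⟧' := by
  obtain ⟨q, hq⟩ : ∃ q : ℤ, q + p = 0 := ⟨-p, by omega⟩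
  refine ⟨?_, fun n => ?_⟩
  · obtain ⟨m, hm⟩ := exists_classMap_eq_zero E M hE I hq htorsM
    refine ⟨m, fun e he => ?_⟩
    obtain ⟨f, hf, rfl⟩ := homOfCocycle_surjective E hq (q - 1) (by omega) e
    rw [homOfCocycle_comp] at he
    obtain ⟨g, hg⟩ := (homOfCocycle_eq_zero_iff E hq _ _ _ _ (q + 1) rfl).mp he
    have := (hE (q + 1)).1
    have := (hE (q + 1)).2
    obtain ⟨g', hg'⟩ := Module.projective_lifting_property (I ^ m • ⊤ : Submodule A M).mkQ g.hom
      (Submodule.mkQ_surjective _)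
    have hbd : E.d q (q + 1) ≫ ModuleCat.ofHom g' = ModuleCat.ofHom (g' ∘ₗ (E.d q (q + 1)).hom) :=
      rfl
    let φ : cocycles E M q := ⟨f.hom - g' ∘ₗ (E.d q (q + 1)).hom, (mem_cocycles E M).mpr (by
      rw [show ModuleCat.ofHom (f.hom - g' ∘ₗ (E.d q (q + 1)).hom) =
        f - E.d q (q + 1) ≫ ModuleCat.ofHom g' from rfl, Preadditive.comp_sub, hf,
        ← Category.assoc, HomologicalComplex.d_comp_d, zero_comp, sub_zero])⟩
    have h0 := hm m le_rfl φ (fun x => by
      rw [← Submodule.Quotient.mk_eq_zero]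
      have h1 := LinearMap.congr_fun hg' ((E.d q (q + 1)).hom x)
      have h2 := LinearMap.congr_fun (congrArg ModuleCat.Hom.hom hg) x
      change Submodule.mkQ _ (f.hom x - g' ((E.d q (q + 1)).hom x)) = 0
      rw [map_sub, sub_eq_zero]
      exact h2.symm.trans h1.symm)
    have h3 : E.d (q - 1) q ≫ (E.d q (q + 1) ≫ ModuleCat.ofHom g') = 0 := by
      rw [← Category.assoc, HomologicalComplex.d_comp_d, zero_comp]
    have h4 : homOfCocycle E hq (E.d q (q + 1) ≫ ModuleCat.ofHom g') (q - 1) (by omega) h3 = 0 :=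
      (homOfCocycle_eq_zero_iff E hq _ _ _ _ (q + 1) rfl).mpr ⟨_, rfl⟩
    have h5 : homOfCocycle E hq (f - E.d q (q + 1) ≫ ModuleCat.ofHom g') (q - 1) (by omega)
        (by rw [Preadditive.comp_sub, hf, h3, sub_zero]) = 0 := h0
    rw [homOfCocycle_sub E hq f _ (q - 1) (by omega) hf h3, h4, sub_zero] at h5
    exact h5
  · let N : Submodule A M := I ^ n • ⊤
    have hq1 : (q - 1) + (p + 1) = 0 := by omega
    obtain ⟨j, hj⟩ := exists_classMap_eq_zero E N hE I hq1 (htors N (p + 1) (by omega))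
    refine ⟨n + j, Nat.le_add_right n j, fun x => ?_⟩
    obtain ⟨f, hf, rfl⟩ := homOfCocycle_surjective E hq (q - 1) (by omega) x
    have := (hE q).1
    have := (hE q).2
    obtain ⟨φ, hφ⟩ := Module.projective_lifting_property (I ^ (n + j) • ⊤ : Submodule A M).mkQ f.hom
      (Submodule.mkQ_surjective _)
    have hdeep : ∀ z, φ ((E.d (q - 1) q).hom z) ∈ (I ^ (n + j) • ⊤ : Submodule A M) := by
      intro z
      rw [← Submodule.Quotient.mk_eq_zero, ← Submodule.mkQ_apply]
      exact (LinearMap.congr_fun hφ _).trans (LinearMap.congr_fun (congrArg ModuleCat.Hom.hom hf) z)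
    have hle : (I ^ (n + j) • ⊤ : Submodule A M) ≤ N :=
      Submodule.smul_mono_left (Ideal.pow_le_pow_right (Nat.le_add_right n j))
    let ψ : E.X (q - 1) →ₗ[A] N :=
      LinearMap.codRestrict N (φ ∘ₗ (E.d (q - 1) q).hom) fun z => hle (hdeep z)
    have hψ : ψ ∈ cocycles E N (q - 1) := (mem_cocycles E N).mpr (by
      ext z
      change φ ((E.d (q - 1) q).hom ((E.d (q - 1 - 1) (q - 1)).hom z)) = 0
      have h1 := LinearMap.congr_fun
        (congrArg ModuleCat.Hom.hom (E.d_comp_d (q - 1 - 1) (q - 1) q)) z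
      rw [show (E.d (q - 1) q).hom ((E.d (q - 1 - 1) (q - 1)).hom z) = 0 from h1, map_zero])
    have h0 := hj j le_rfl ⟨ψ, hψ⟩ (fun z => by
      refine (Submodule.mem_smul_top_iff _ N _).mpr ?_
      change φ ((E.d (q - 1) q).hom z) ∈ I ^ j • (I ^ n • ⊤ : Submodule A M)
      rw [← Submodule.mul_smul, ← pow_add, add_comm j n]
      exact hdeep z)
    obtain ⟨γ, hγ⟩ := (homOfCocycle_eq_zero_iff E hq1 _ _ _ _ q (by omega)).mp h0
    let ξ : E.X q ⟶ ModuleCat.of A M := ModuleCat.ofHom (φ - N.subtype ∘ₗ γ.hom)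
    have hξ : E.d (q - 1) q ≫ ξ = 0 := by
      ext z
      change φ ((E.d (q - 1) q).hom z) - (γ.hom ((E.d (q - 1) q).hom z) : M) = 0
      rw [sub_eq_zero]
      exact (congrArg Subtype.val (LinearMap.congr_fun (congrArg ModuleCat.Hom.hom hγ) z)).symm
    refine ⟨homOfCocycle E hq ξ (q - 1) (by omega) hξ, ?_⟩
    rw [homOfCocycle_comp, homOfCocycle_comp]
    apply homOfCocycle_congr
    ext z
    change Submodule.Quotient.mk (φ z - (γ.hom z : M)) =
      Submodule.mapQ (I ^ (n + j) • ⊤) (I ^ n • ⊤) LinearMap.id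
        (Submodule.smul_mono_left (Ideal.pow_le_pow_right (Nat.le_add_right n j))) (f.hom z)
    rw [← LinearMap.congr_fun hφ z, LinearMap.comp_apply, Submodule.mkQ_apply,
      Submodule.mapQ_apply, LinearMap.id_apply, Submodule.Quotient.eq]
    simpa using N.neg_mem (γ.hom z).2

end Groth.Agent.PcExt
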